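/-
Words of the presented Fischer group Fi23: an element `y` of order 17, an element `u` of order 16
normalizing it, an involution `s` commuting with `u`.
-/
import Cfsg.Agent.Lib.Helper28.Fi23x31671.Defs

set_option autoImplicit false
set_option maxRecDepth 100000

namespace Cfsg.Agent.Lib.Helper28.Fi23Out

open Cfsg.Spor.Fi23 (Gen)

/-- the element of order 17 -/
def yw : List Gen := [Gen.a, Gen.c, Gen.j, Gen.h, Gen.b, Gen.d, Gen.e, Gen.g, Gen.f]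

/-- the element of order 16 with `u y u⁻¹ = y⁶` -/
def uw : List Gen := [Gen.d, Gen.h, Gen.i, Gen.e, Gen.c, Gen.d, Gen.h, Gen.f, Gen.g, Gen.e, Gen.f, Gen.c, Gen.d, Gen.e, Gen.b, Gen.c, Gen.d, Gen.h, Gen.i, Gen.g, Gen.e, Gen.f, Gen.c, Gen.d, Gen.e, Gen.b, Gen.c, Gen.d, Gen.h, Gen.a, Gen.b, Gen.c, Gen.d, Gen.e, Gen.f, Gen.g, Gen.j, Gen.c, Gen.d, Gen.h, Gen.e, Gen.f, Gen.c, Gen.d, Gen.e, Gen.b, Gen.c, Gen.d, Gen.h, Gen.i, Gen.h, Gen.e, Gen.f, Gen.d, Gen.e, Gen.b, Gen.c, Gen.d, Gen.h, Gen.a, Gen.b, Gen.c, Gen.d, Gen.e, Gen.f, Gen.g, Gen.e, Gen.d, Gen.h, Gen.e, Gen.f, Gen.c, Gen.d, Gen.e, Gen.a, Gen.b, Gen.c, Gen.d, Gen.h, Gen.i, Gen.f, Gen.c, Gen.d, Gen.e, Gen.b, Gen.c, Gen.d, Gen.h, Gen.a, Gen.b, Gen.c, Gen.d, Gen.e, Gen.f, Gen.c, Gen.d, Gen.h, Gen.i, Gen.d, Gen.e, Gen.b, Gen.c, Gen.d,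 Gen.a, Gen.b, Gen.h, Gen.i, Gen.h, Gen.e, Gen.c, Gen.b, Gen.c]

/-- the involution commuting with `u` -/
def sw : List Gen := [Gen.a, Gen.b, Gen.c, Gen.d, Gen.h, Gen.i, Gen.f, Gen.e, Gen.d, Gen.h, Gen.j, Gen.f, Gen.g, Gen.d, Gen.e, Gen.f, Gen.c, Gen.d, Gen.e, Gen.b, Gen.c, Gen.d, Gen.h, Gen.i, Gen.g, Gen.f, Gen.d, Gen.e, Gen.b, Gen.c, Gen.d, Gen.h, Gen.j, Gen.g, Gen.f, Gen.e, Gen.d, Gen.c, Gen.b, Gen.a, Gen.b, Gen.c, Gen.d, Gen.e, Gen.f, Gen.g, Gen.j, Gen.h, Gen.d, Gen.c, Gen.b, Gen.e, Gen.d, Gen.f, Gen.g, Gen.i, Gen.h, Gen.d, Gen.c, Gen.b, Gen.e, Gen.d, Gen.c, Gen.f, Gen.e, Gen.d, Gen.g, Gen.f, Gen.j, Gen.h, Gen.d, Gen.e, Gen.f, Gen.i, Gen.h, Gen.d, Gen.c, Gen.b, Gen.a]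

end Cfsg.Agent.Lib.Helper28.Fi23Out
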