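/-
The tests for the centralizer of the element `y` of order 17 of the presented Fischer group Fi23.
-/
import Cfsg.Agent.Lib.Helper28.Fi23Out.Base

set_option autoImplicit false
set_option maxRecDepth 100000

namespace Cfsg.Agent.Lib.Helper28.Fi23Out

open Cfsg.Spor.Fi23 (Gen)
open Cfsg.Agent.Lib.Helper28.TC
open Cfsg.Agent.Lib.Helper28.Ord
open Cfsg.Agent.Lib.Helper28.Sift
open Cfsg.Agent.Lib.Helper28.Fi23x31671 (tf nn rels T hrel hinv nn_pos)
open Cfsg.Agent.Lib.Helper28.Fi23Ord (phi phi_injective card_Fi23 finite_Fi23)

noncomputable section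
/-- the element of order 17 -/
def yE : GF := we yw

/-- the test for the centralizer of `y`: the word does not commute with `y`, or is a power of `y` -/
def PY (w : List Gen) : Bool :=
  bor (bnot (wEq (w ++ yw) (yw ++ w))) (anyList (fun k => wEq w (wrep k yw)) (List.range 17))

def chkY (q : ℕ) : Bool := siftP tf PY LsY (orbList tf yw 8 q) []

/-- the element of order 16 normalizing `y` -/
def uE : GF := we uw

end

end Cfsg.Agent.Lib.Helper28.Fi23Out
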