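/-
Data for the rigidity of the triple `(y, u, s)` of the presented Fischer group Fi23: for every
generator `x` a word `g` in `y, u, s, y⁻¹, u⁻¹, s⁻¹` (letters 0-5) with `x = g s g⁻¹`.
-/
import Cfsg.Agent.Lib.Helper28.Fi23x31671.Defs

set_option autoImplicit false
set_option maxRecDepth 100000

namespace Cfsg.Agent.Lib.Helper28.Fi23Out

open Cfsg.Spor.Fi23 (Gen)

noncomputable section

def conjW0 : List ℕ := [2, 3, 3, 3, 2, 0, 0, 2, 0, 0, 0, 0, 0, 0, 2, 0, 0]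

def conjW1 : List ℕ := [0, 2, 3, 3, 2, 0, 0, 0, 2, 0, 2, 3, 3, 3, 3, 3]

def conjW2 : List ℕ := [0, 0, 0, 0, 2, 3, 3, 3, 3, 3, 3, 2, 0, 0, 0, 0, 2, 3, 2, 3, 3, 3, 3]

def conjW3 : List ℕ := [3, 2, 0, 2, 3, 3, 3, 2, 3, 3, 3, 3, 3, 3, 2, 3, 3]

def conjW4 : List ℕ := [2, 0, 2, 3, 3, 3, 2, 3, 3, 3, 3, 3, 3, 2, 3, 3]

def conjW5 : List ℕ := [0, 2, 3, 3, 2, 0, 0, 0, 0, 2, 0, 0, 0, 0, 0, 0, 0, 2, 0]

def conjW6 : List ℕ := [3, 3, 2, 3, 2, 0, 2, 0, 0, 2, 3, 3, 3, 3, 3]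

def conjW7 : List ℕ := [3, 3, 3, 2, 3, 2, 0, 2, 0, 0, 2, 3, 3, 3, 3, 3]

def conjW8 : List ℕ := [2, 0, 0, 0, 0, 0, 0, 2, 0, 2, 3, 3, 3, 3, 3, 3, 2, 3, 3]

def conjW9 : List ℕ := [2, 3, 3, 2, 0, 0, 0, 0, 0, 0, 0, 2, 3, 3, 3, 2, 3]

/-- the conjugating words -/
def conjW (x : Gen) : List ℕ := Gen.rec (motive := fun _ => List ℕ) conjW0 conjW1 conjW2 conjW3 conjW4 conjW5 conjW6 conjW7 conjW8 conjW9 x

end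

end Cfsg.Agent.Lib.Helper28.Fi23Out
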