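/-
The test for the centralizer of the element `u` of order 16 of the presented Fischer group Fi23 (least points of the cycles of `u`).
-/
import Cfsg.Agent.Lib.Helper28.Fi23Out.UTabDefs
import Cfsg.Agent.Lib.Helper28.Fi23Out.GenData
import Cfsg.Agent.Lib.Helper28.Sift.Cent2

set_option autoImplicit false
set_option maxRecDepth 100000

namespace Cfsg.Agent.Lib.Helper28.Fi23Out

open Cfsg.Spor.Fi23 (Gen)
open Cfsg.Agent.Lib.Helper28.TC
open Cfsg.Agent.Lib.Helper28.Ord
open Cfsg.Agent.Lib.Helper28.Sift
open Cfsg.Agent.Lib.Helper28.Fi23x31671 (tf nn rels T hrel hinv nn_pos)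
open Cfsg.Agent.Lib.Helper28.Fi23Ord (phi phi_injective card_Fi23 finite_Fi23)

noncomputable section

/-- the involution commuting with `u` -/
def sE : GF := we sw

/-- the relation words `x²` and `(y u x)¹⁴` -/
def rel1 (w : List Gen) : List Gen := wrep 2 w
def rel2 (w : List Gen) : List Gen := wrep 14 (yw ++ uw ++ w)

/-- the test for the image of `s`: the word is `s`, or violates one of the two relations -/
def PUr (w : List Gen) : Bool :=
  bor (wEq w sw) (bor (bnot (isId (rel1 w))) (bnot (isId (rel2 w))))

/-- the test for an element `w`: it does not commute with `u`, or all the `uʲ w` pass the test -/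
def PU16 (w : List Gen) : Bool :=
  bor (bnot (wEq (w ++ uw) (uw ++ w))) (allList (fun j => PUr (wrep j uw ++ w)) (List.range 16))

/-- the test at the least points of the cycles of `u` -/
def chkU2 (m : ℕ) : Bool :=
  bor (bnot (isMinF uA 16 m)) (siftP tf PU16 LsU (orbListF uA 6 m) [])

end

end Cfsg.Agent.Lib.Helper28.Fi23Out
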