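/-
Kernel checks for the centralizer of the element `u` of the presented Fischer group Fi23 (part 0).
-/
import Cfsg.Agent.Lib.Helper28.Fi23Out.URepDefs

set_option autoImplicit false
set_option maxRecDepth 100000
set_option Elab.async false

namespace Cfsg.Agent.Lib.Helper28.Fi23Out

open Cfsg.Spor.Fi23 (Gen)
open Cfsg.Agent.Lib.Helper28.TC
open Cfsg.Agent.Lib.Helper28.Ord
open Cfsg.Agent.Lib.Helper28.Sift
open Cfsg.Agent.Lib.Helper28.Fi23x31671 (tf nn rels T hrel hinv nn_pos)
open Cfsg.Agent.Lib.Helper28.Fi23Ord (phi phi_injective card_Fi23 finite_Fi23)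

noncomputable section


theorem chkU2_blk0 : allRange (guard nn chkU2) 8 (0 * 2 ^ 8) = true := by decide +kernel
theorem chkU2_blk1 : allRange (guard nn chkU2) 8 (1 * 2 ^ 8) = true := by decide +kernel
theorem chkU2_blk2 : allRange (guard nn chkU2) 8 (2 * 2 ^ 8) = true := by decide +kernel
theorem chkU2_blk3 : allRange (guard nn chkU2) 8 (3 * 2 ^ 8) = true := by decide +kernel
theorem chkU2_blk4 : allRange (guard nn chkU2) 8 (4 * 2 ^ 8) = true := by decide +kernel
theorem chkU2_blk5 : allRange (guard nn chkU2) 8 (5 * 2 ^ 8) = true := by decide +kernel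
theorem chkU2_blk6 : allRange (guard nn chkU2) 8 (6 * 2 ^ 8) = true := by decide +kernel
theorem chkU2_blk7 : allRange (guard nn chkU2) 8 (7 * 2 ^ 8) = true := by decide +kernel
theorem chkU2_blk8 : allRange (guard nn chkU2) 8 (8 * 2 ^ 8) = true := by decide +kernel
theorem chkU2_blk9 : allRange (guard nn chkU2) 8 (9 * 2 ^ 8) = true := by decide +kernel
theorem chkU2_blk10 : allRange (guard nn chkU2) 8 (10 * 2 ^ 8) = true := by decide +kernel
theorem chkU2_blk11 : allRange (guard nn chkU2) 8 (11 * 2 ^ 8) = true := by decide +kernel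
theorem chkU2_blk12 : allRange (guard nn chkU2) 8 (12 * 2 ^ 8) = true := by decide +kernel
theorem chkU2_blk13 : allRange (guard nn chkU2) 8 (13 * 2 ^ 8) = true := by decide +kernel
theorem chkU2_blk14 : allRange (guard nn chkU2) 8 (14 * 2 ^ 8) = true := by decide +kernel
theorem chkU2_blk15 : allRange (guard nn chkU2) 8 (15 * 2 ^ 8) = true := by decide +kernel
theorem chkU2_blk16 : allRange (guard nn chkU2) 8 (16 * 2 ^ 8) = true := by decide +kernel
theorem chkU2_blk17 : allRange (guard nn chkU2) 8 (17 * 2 ^ 8) = true := by decide +kernel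
theorem chkU2_blk18 : allRange (guard nn chkU2) 8 (18 * 2 ^ 8) = true := by decide +kernel
theorem chkU2_blk19 : allRange (guard nn chkU2) 8 (19 * 2 ^ 8) = true := by decide +kernel
theorem chkU2_blk20 : allRange (guard nn chkU2) 8 (20 * 2 ^ 8) = true := by decide +kernel
theorem chkU2_blk21 : allRange (guard nn chkU2) 8 (21 * 2 ^ 8) = true := by decide +kernel
theorem chkU2_blk22 : allRange (guard nn chkU2) 8 (22 * 2 ^ 8) = true := by decide +kernel
theorem chkU2_blk23 : allRange (guard nn chkU2) 8 (23 * 2 ^ 8) = true := by decide +kernel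
theorem chkU2_blk24 : allRange (guard nn chkU2) 8 (24 * 2 ^ 8) = true := by decide +kernel
theorem chkU2_blk25 : allRange (guard nn chkU2) 8 (25 * 2 ^ 8) = true := by decide +kernel
theorem chkU2_blk26 : allRange (guard nn chkU2) 8 (26 * 2 ^ 8) = true := by decide +kernel
theorem chkU2_blk27 : allRange (guard nn chkU2) 8 (27 * 2 ^ 8) = true := by decide +kernel
theorem chkU2_blk28 : allRange (guard nn chkU2) 8 (28 * 2 ^ 8) = true := by decide +kernel
theorem chkU2_blk29 : allRange (guard nn chkU2) 8 (29 * 2 ^ 8) = true := by decide +kernel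
theorem chkU2_blk30 : allRange (guard nn chkU2) 8 (30 * 2 ^ 8) = true := by decide +kernel
theorem chkU2_blk31 : allRange (guard nn chkU2) 8 (31 * 2 ^ 8) = true := by decide +kernel
theorem chkU2_blk32 : allRange (guard nn chkU2) 8 (32 * 2 ^ 8) = true := by decide +kernel
theorem chkU2_blk33 : allRange (guard nn chkU2) 8 (33 * 2 ^ 8) = true := by decide +kernel
theorem chkU2_blk34 : allRange (guard nn chkU2) 8 (34 * 2 ^ 8) = true := by decide +kernel
theorem chkU2_blk35 : allRange (guard nn chkU2) 8 (35 * 2 ^ 8) = true := by decide +kernel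
theorem chkU2_blk36 : allRange (guard nn chkU2) 8 (36 * 2 ^ 8) = true := by decide +kernel
theorem chkU2_blk37 : allRange (guard nn chkU2) 8 (37 * 2 ^ 8) = true := by decide +kernel
theorem chkU2_blk38 : allRange (guard nn chkU2) 8 (38 * 2 ^ 8) = true := by decide +kernel
theorem chkU2_blk39 : allRange (guard nn chkU2) 8 (39 * 2 ^ 8) = true := by decide +kernel
theorem chkU2_blk40 : allRange (guard nn chkU2) 8 (40 * 2 ^ 8) = true := by decide +kernel
theorem chkU2_blk41 : allRange (guard nn chkU2) 8 (41 * 2 ^ 8) = true := by decide +kernel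
theorem chkU2_blk42 : allRange (guard nn chkU2) 8 (42 * 2 ^ 8) = true := by decide +kernel
theorem chkU2_blk43 : allRange (guard nn chkU2) 8 (43 * 2 ^ 8) = true := by decide +kernel
theorem chkU2_blk44 : allRange (guard nn chkU2) 8 (44 * 2 ^ 8) = true := by decide +kernel
theorem chkU2_blk45 : allRange (guard nn chkU2) 8 (45 * 2 ^ 8) = true := by decide +kernel
theorem chkU2_blk46 : allRange (guard nn chkU2) 8 (46 * 2 ^ 8) = true := by decide +kernel
theorem chkU2_blk47 : allRange (guard nn chkU2) 8 (47 * 2 ^ 8) = true := by decide +kernel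
theorem chkU2_blk48 : allRange (guard nn chkU2) 8 (48 * 2 ^ 8) = true := by decide +kernel
theorem chkU2_blk49 : allRange (guard nn chkU2) 8 (49 * 2 ^ 8) = true := by decide +kernel
theorem chkU2_blk50 : allRange (guard nn chkU2) 8 (50 * 2 ^ 8) = true := by decide +kernel
theorem chkU2_blk51 : allRange (guard nn chkU2) 8 (51 * 2 ^ 8) = true := by decide +kernel
theorem chkU2_blk52 : allRange (guard nn chkU2) 8 (52 * 2 ^ 8) = true := by decide +kernel
theorem chkU2_blk53 : allRange (guard nn chkU2) 8 (53 * 2 ^ 8) = true := by decide +kernel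
theorem chkU2_blk54 : allRange (guard nn chkU2) 8 (54 * 2 ^ 8) = true := by decide +kernel
theorem chkU2_blk55 : allRange (guard nn chkU2) 8 (55 * 2 ^ 8) = true := by decide +kernel
theorem chkU2_blk56 : allRange (guard nn chkU2) 8 (56 * 2 ^ 8) = true := by decide +kernel
theorem chkU2_blk57 : allRange (guard nn chkU2) 8 (57 * 2 ^ 8) = true := by decide +kernel
theorem chkU2_blk58 : allRange (guard nn chkU2) 8 (58 * 2 ^ 8) = true := by decide +kernel
theorem chkU2_blk59 : allRange (guard nn chkU2) 8 (59 * 2 ^ 8) = true := by decide +kernel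
theorem chkU2_blk60 : allRange (guard nn chkU2) 8 (60 * 2 ^ 8) = true := by decide +kernel
theorem chkU2_blk61 : allRange (guard nn chkU2) 8 (61 * 2 ^ 8) = true := by decide +kernel

end

end Cfsg.Agent.Lib.Helper28.Fi23Out
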