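/-
Kernel checks for the centralizer of the element `u` of the presented Fischer group Fi23 (part 1).
-/
import Cfsg.Agent.Lib.Helper28.Fi23Out.URepDefs

set_option autoImplicit false
set_option maxRecDepth 100000
set_option Elab.async false

namespace Cfsg.Agent.Lib.Helper28.Fi23Out

open Cfsg.Spor.Fi23 (Gen)
open Cfsg.Agent.Lib.Helper28.TC
open Cfsg.Agent.Lib.Helper28.Ord
open Cfsg.Agent.Lib.Helper28.Sift
open Cfsg.Agent.Lib.Helper28.Fi23x31671 (tf nn rels T hrel hinv nn_pos)
open Cfsg.Agent.Lib.Helper28.Fi23Ord (phi phi_injective card_Fi23 finite_Fi23)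

noncomputable section


theorem chkU2_blk62 : allRange (guard nn chkU2) 8 (62 * 2 ^ 8) = true := by decide +kernel
theorem chkU2_blk63 : allRange (guard nn chkU2) 8 (63 * 2 ^ 8) = true := by decide +kernel
theorem chkU2_blk64 : allRange (guard nn chkU2) 8 (64 * 2 ^ 8) = true := by decide +kernel
theorem chkU2_blk65 : allRange (guard nn chkU2) 8 (65 * 2 ^ 8) = true := by decide +kernel
theorem chkU2_blk66 : allRange (guard nn chkU2) 8 (66 * 2 ^ 8) = true := by decide +kernel
theorem chkU2_blk67 : allRange (guard nn chkU2) 8 (67 * 2 ^ 8) = true := by decide +kernel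
theorem chkU2_blk68 : allRange (guard nn chkU2) 8 (68 * 2 ^ 8) = true := by decide +kernel
theorem chkU2_blk69 : allRange (guard nn chkU2) 8 (69 * 2 ^ 8) = true := by decide +kernel
theorem chkU2_blk70 : allRange (guard nn chkU2) 8 (70 * 2 ^ 8) = true := by decide +kernel
theorem chkU2_blk71 : allRange (guard nn chkU2) 8 (71 * 2 ^ 8) = true := by decide +kernel
theorem chkU2_blk72 : allRange (guard nn chkU2) 8 (72 * 2 ^ 8) = true := by decide +kernel
theorem chkU2_blk73 : allRange (guard nn chkU2) 8 (73 * 2 ^ 8) = true := by decide +kernel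
theorem chkU2_blk74 : allRange (guard nn chkU2) 8 (74 * 2 ^ 8) = true := by decide +kernel
theorem chkU2_blk75 : allRange (guard nn chkU2) 8 (75 * 2 ^ 8) = true := by decide +kernel
theorem chkU2_blk76 : allRange (guard nn chkU2) 8 (76 * 2 ^ 8) = true := by decide +kernel
theorem chkU2_blk77 : allRange (guard nn chkU2) 8 (77 * 2 ^ 8) = true := by decide +kernel
theorem chkU2_blk78 : allRange (guard nn chkU2) 8 (78 * 2 ^ 8) = true := by decide +kernel
theorem chkU2_blk79 : allRange (guard nn chkU2) 8 (79 * 2 ^ 8) = true := by decide +kernel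
theorem chkU2_blk80 : allRange (guard nn chkU2) 8 (80 * 2 ^ 8) = true := by decide +kernel
theorem chkU2_blk81 : allRange (guard nn chkU2) 8 (81 * 2 ^ 8) = true := by decide +kernel
theorem chkU2_blk82 : allRange (guard nn chkU2) 8 (82 * 2 ^ 8) = true := by decide +kernel
theorem chkU2_blk83 : allRange (guard nn chkU2) 8 (83 * 2 ^ 8) = true := by decide +kernel
theorem chkU2_blk84 : allRange (guard nn chkU2) 8 (84 * 2 ^ 8) = true := by decide +kernel
theorem chkU2_blk85 : allRange (guard nn chkU2) 8 (85 * 2 ^ 8) = true := by decide +kernel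
theorem chkU2_blk86 : allRange (guard nn chkU2) 8 (86 * 2 ^ 8) = true := by decide +kernel
theorem chkU2_blk87 : allRange (guard nn chkU2) 8 (87 * 2 ^ 8) = true := by decide +kernel
theorem chkU2_blk88 : allRange (guard nn chkU2) 8 (88 * 2 ^ 8) = true := by decide +kernel
theorem chkU2_blk89 : allRange (guard nn chkU2) 8 (89 * 2 ^ 8) = true := by decide +kernel
theorem chkU2_blk90 : allRange (guard nn chkU2) 8 (90 * 2 ^ 8) = true := by decide +kernel
theorem chkU2_blk91 : allRange (guard nn chkU2) 8 (91 * 2 ^ 8) = true := by decide +kernel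
theorem chkU2_blk92 : allRange (guard nn chkU2) 8 (92 * 2 ^ 8) = true := by decide +kernel
theorem chkU2_blk93 : allRange (guard nn chkU2) 8 (93 * 2 ^ 8) = true := by decide +kernel
theorem chkU2_blk94 : allRange (guard nn chkU2) 8 (94 * 2 ^ 8) = true := by decide +kernel
theorem chkU2_blk95 : allRange (guard nn chkU2) 8 (95 * 2 ^ 8) = true := by decide +kernel
theorem chkU2_blk96 : allRange (guard nn chkU2) 8 (96 * 2 ^ 8) = true := by decide +kernel
theorem chkU2_blk97 : allRange (guard nn chkU2) 8 (97 * 2 ^ 8) = true := by decide +kernel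
theorem chkU2_blk98 : allRange (guard nn chkU2) 8 (98 * 2 ^ 8) = true := by decide +kernel
theorem chkU2_blk99 : allRange (guard nn chkU2) 8 (99 * 2 ^ 8) = true := by decide +kernel
theorem chkU2_blk100 : allRange (guard nn chkU2) 8 (100 * 2 ^ 8) = true := by decide +kernel
theorem chkU2_blk101 : allRange (guard nn chkU2) 8 (101 * 2 ^ 8) = true := by decide +kernel
theorem chkU2_blk102 : allRange (guard nn chkU2) 8 (102 * 2 ^ 8) = true := by decide +kernel
theorem chkU2_blk103 : allRange (guard nn chkU2) 8 (103 * 2 ^ 8) = true := by decide +kernel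
theorem chkU2_blk104 : allRange (guard nn chkU2) 8 (104 * 2 ^ 8) = true := by decide +kernel
theorem chkU2_blk105 : allRange (guard nn chkU2) 8 (105 * 2 ^ 8) = true := by decide +kernel
theorem chkU2_blk106 : allRange (guard nn chkU2) 8 (106 * 2 ^ 8) = true := by decide +kernel
theorem chkU2_blk107 : allRange (guard nn chkU2) 8 (107 * 2 ^ 8) = true := by decide +kernel
theorem chkU2_blk108 : allRange (guard nn chkU2) 8 (108 * 2 ^ 8) = true := by decide +kernel
theorem chkU2_blk109 : allRange (guard nn chkU2) 8 (109 * 2 ^ 8) = true := by decide +kernel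
theorem chkU2_blk110 : allRange (guard nn chkU2) 8 (110 * 2 ^ 8) = true := by decide +kernel
theorem chkU2_blk111 : allRange (guard nn chkU2) 8 (111 * 2 ^ 8) = true := by decide +kernel
theorem chkU2_blk112 : allRange (guard nn chkU2) 8 (112 * 2 ^ 8) = true := by decide +kernel
theorem chkU2_blk113 : allRange (guard nn chkU2) 8 (113 * 2 ^ 8) = true := by decide +kernel
theorem chkU2_blk114 : allRange (guard nn chkU2) 8 (114 * 2 ^ 8) = true := by decide +kernel
theorem chkU2_blk115 : allRange (guard nn chkU2) 8 (115 * 2 ^ 8) = true := by decide +kernel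
theorem chkU2_blk116 : allRange (guard nn chkU2) 8 (116 * 2 ^ 8) = true := by decide +kernel
theorem chkU2_blk117 : allRange (guard nn chkU2) 8 (117 * 2 ^ 8) = true := by decide +kernel
theorem chkU2_blk118 : allRange (guard nn chkU2) 8 (118 * 2 ^ 8) = true := by decide +kernel
theorem chkU2_blk119 : allRange (guard nn chkU2) 8 (119 * 2 ^ 8) = true := by decide +kernel
theorem chkU2_blk120 : allRange (guard nn chkU2) 8 (120 * 2 ^ 8) = true := by decide +kernel
theorem chkU2_blk121 : allRange (guard nn chkU2) 8 (121 * 2 ^ 8) = true := by decide +kernel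
theorem chkU2_blk122 : allRange (guard nn chkU2) 8 (122 * 2 ^ 8) = true := by decide +kernel
theorem chkU2_blk123 : allRange (guard nn chkU2) 8 (123 * 2 ^ 8) = true := by decide +kernel

end

end Cfsg.Agent.Lib.Helper28.Fi23Out
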