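/-
Kernel checks for the centralizer of the element `u` of order 16 of the presented Fischer group Fi23 and for the rigidity of the triple `(y, u, s)`.
-/
import Cfsg.Agent.Lib.Helper28.Fi23Out.URepBlk0
import Cfsg.Agent.Lib.Helper28.Fi23Out.URepBlk1

set_option autoImplicit false
set_option maxRecDepth 100000

namespace Cfsg.Agent.Lib.Helper28.Fi23Out

open Cfsg.Spor.Fi23 (Gen)
open Cfsg.Agent.Lib.Helper28.TC
open Cfsg.Agent.Lib.Helper28.Ord
open Cfsg.Agent.Lib.Helper28.Sift
open Cfsg.Agent.Lib.Helper28.Fi23x31671 (tf nn rels T hrel hinv nn_pos)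
open Cfsg.Agent.Lib.Helper28.Fi23Ord (phi phi_injective card_Fi23 finite_Fi23)

noncomputable section

theorem chkU2_all : ∀ i, i < nn → chkU2 i = true := by
  refine all_of_blocks nn chkU2 8 124 (by decide) ?_
  intro k hk
  interval_cases k
  · exact chkU2_blk0
  · exact chkU2_blk1
  · exact chkU2_blk2
  · exact chkU2_blk3
  · exact chkU2_blk4
  · exact chkU2_blk5
  · exact chkU2_blk6
  · exact chkU2_blk7
  · exact chkU2_blk8
  · exact chkU2_blk9
  · exact chkU2_blk10
  · exact chkU2_blk11
  · exact chkU2_blk12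
  · exact chkU2_blk13
  · exact chkU2_blk14
  · exact chkU2_blk15
  · exact chkU2_blk16
  · exact chkU2_blk17
  · exact chkU2_blk18
  · exact chkU2_blk19
  · exact chkU2_blk20
  · exact chkU2_blk21
  · exact chkU2_blk22
  · exact chkU2_blk23
  · exact chkU2_blk24
  · exact chkU2_blk25
  · exact chkU2_blk26
  · exact chkU2_blk27
  · exact chkU2_blk28
  · exact chkU2_blk29
  · exact chkU2_blk30
  · exact chkU2_blk31
  · exact chkU2_blk32
  · exact chkU2_blk33
  · exact chkU2_blk34
  · exact chkU2_blk35
  · exact chkU2_blk36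
  · exact chkU2_blk37
  · exact chkU2_blk38
  · exact chkU2_blk39
  · exact chkU2_blk40
  · exact chkU2_blk41
  · exact chkU2_blk42
  · exact chkU2_blk43
  · exact chkU2_blk44
  · exact chkU2_blk45
  · exact chkU2_blk46
  · exact chkU2_blk47
  · exact chkU2_blk48
  · exact chkU2_blk49
  · exact chkU2_blk50
  · exact chkU2_blk51
  · exact chkU2_blk52
  · exact chkU2_blk53
  · exact chkU2_blk54
  · exact chkU2_blk55
  · exact chkU2_blk56
  · exact chkU2_blk57
  · exact chkU2_blk58
  · exact chkU2_blk59
  · exact chkU2_blk60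
  · exact chkU2_blk61
  · exact chkU2_blk62
  · exact chkU2_blk63
  · exact chkU2_blk64
  · exact chkU2_blk65
  · exact chkU2_blk66
  · exact chkU2_blk67
  · exact chkU2_blk68
  · exact chkU2_blk69
  · exact chkU2_blk70
  · exact chkU2_blk71
  · exact chkU2_blk72
  · exact chkU2_blk73
  · exact chkU2_blk74
  · exact chkU2_blk75
  · exact chkU2_blk76
  · exact chkU2_blk77
  · exact chkU2_blk78
  · exact chkU2_blk79
  · exact chkU2_blk80
  · exact chkU2_blk81
  · exact chkU2_blk82
  · exact chkU2_blk83
  · exact chkU2_blk84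
  · exact chkU2_blk85
  · exact chkU2_blk86
  · exact chkU2_blk87
  · exact chkU2_blk88
  · exact chkU2_blk89
  · exact chkU2_blk90
  · exact chkU2_blk91
  · exact chkU2_blk92
  · exact chkU2_blk93
  · exact chkU2_blk94
  · exact chkU2_blk95
  · exact chkU2_blk96
  · exact chkU2_blk97
  · exact chkU2_blk98
  · exact chkU2_blk99
  · exact chkU2_blk100
  · exact chkU2_blk101
  · exact chkU2_blk102
  · exact chkU2_blk103
  · exact chkU2_blk104
  · exact chkU2_blk105
  · exact chkU2_blk106
  · exact chkU2_blk107
  · exact chkU2_blk108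
  · exact chkU2_blk109
  · exact chkU2_blk110
  · exact chkU2_blk111
  · exact chkU2_blk112
  · exact chkU2_blk113
  · exact chkU2_blk114
  · exact chkU2_blk115
  · exact chkU2_blk116
  · exact chkU2_blk117
  · exact chkU2_blk118
  · exact chkU2_blk119
  · exact chkU2_blk120
  · exact chkU2_blk121
  · exact chkU2_blk122
  · exact chkU2_blk123

theorem su_chk : wEq (sw ++ uw) (uw ++ sw) = true := by decide +kernel
theorem r1_chk : isId (rel1 sw) = true := by decide +kernel
theorem r2_chk : isId (rel2 sw) = true := by decide +kernel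

/-- the letters `y, u, s, y⁻¹, u⁻¹, s⁻¹` -/
def lw (c : ℕ) : List Gen := nthD [yw, uw, sw, yw.reverse, uw.reverse, sw.reverse] c []

/-- the flattened word -/
def flatS (code : List ℕ) : List Gen := List.rec [] (fun c _ ih => lw c ++ ih) code

/-- the generator `x` is the conjugate of the transposition `s` by the word `conjW x` -/
def genChk (x : Gen) : Bool :=
  wEq (flatS (conjW x) ++ sw ++ (flatS (conjW x)).reverse) [x]

theorem genChk_all (x : Gen) : genChk x = true := by
  cases x <;> decide +kernel

end

end Cfsg.Agent.Lib.Helper28.Fi23Out
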