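/-
The table of the permutation of the element `u` of order 16 of the presented Fischer group Fi23 is correct.
-/
import Cfsg.Agent.Lib.Helper28.Fi23Out.UTabBlk0
import Cfsg.Agent.Lib.Helper28.Fi23Out.UTabBlk1
import Cfsg.Agent.Lib.Helper28.Sift.Cent2

set_option autoImplicit false
set_option maxRecDepth 100000

namespace Cfsg.Agent.Lib.Helper28.Fi23Out

open Cfsg.Spor.Fi23 (Gen)
open Cfsg.Agent.Lib.Helper28.TC
open Cfsg.Agent.Lib.Helper28.Ord
open Cfsg.Agent.Lib.Helper28.Sift
open Cfsg.Agent.Lib.Helper28.Fi23x31671 (tf nn rels T hrel hinv nn_pos)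
open Cfsg.Agent.Lib.Helper28.Fi23Ord (phi phi_injective card_Fi23 finite_Fi23)

noncomputable section

theorem uTabP_all : ∀ i, i < nn → uTabP i = true := by
  refine all_of_blocks nn uTabP 8 124 (by decide) ?_
  intro k hk
  interval_cases k
  · exact uTabP_blk0
  · exact uTabP_blk1
  · exact uTabP_blk2
  · exact uTabP_blk3
  · exact uTabP_blk4
  · exact uTabP_blk5
  · exact uTabP_blk6
  · exact uTabP_blk7
  · exact uTabP_blk8
  · exact uTabP_blk9
  · exact uTabP_blk10
  · exact uTabP_blk11
  · exact uTabP_blk12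
  · exact uTabP_blk13
  · exact uTabP_blk14
  · exact uTabP_blk15
  · exact uTabP_blk16
  · exact uTabP_blk17
  · exact uTabP_blk18
  · exact uTabP_blk19
  · exact uTabP_blk20
  · exact uTabP_blk21
  · exact uTabP_blk22
  · exact uTabP_blk23
  · exact uTabP_blk24
  · exact uTabP_blk25
  · exact uTabP_blk26
  · exact uTabP_blk27
  · exact uTabP_blk28
  · exact uTabP_blk29
  · exact uTabP_blk30
  · exact uTabP_blk31
  · exact uTabP_blk32
  · exact uTabP_blk33
  · exact uTabP_blk34
  · exact uTabP_blk35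
  · exact uTabP_blk36
  · exact uTabP_blk37
  · exact uTabP_blk38
  · exact uTabP_blk39
  · exact uTabP_blk40
  · exact uTabP_blk41
  · exact uTabP_blk42
  · exact uTabP_blk43
  · exact uTabP_blk44
  · exact uTabP_blk45
  · exact uTabP_blk46
  · exact uTabP_blk47
  · exact uTabP_blk48
  · exact uTabP_blk49
  · exact uTabP_blk50
  · exact uTabP_blk51
  · exact uTabP_blk52
  · exact uTabP_blk53
  · exact uTabP_blk54
  · exact uTabP_blk55
  · exact uTabP_blk56
  · exact uTabP_blk57
  · exact uTabP_blk58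
  · exact uTabP_blk59
  · exact uTabP_blk60
  · exact uTabP_blk61
  · exact uTabP_blk62
  · exact uTabP_blk63
  · exact uTabP_blk64
  · exact uTabP_blk65
  · exact uTabP_blk66
  · exact uTabP_blk67
  · exact uTabP_blk68
  · exact uTabP_blk69
  · exact uTabP_blk70
  · exact uTabP_blk71
  · exact uTabP_blk72
  · exact uTabP_blk73
  · exact uTabP_blk74
  · exact uTabP_blk75
  · exact uTabP_blk76
  · exact uTabP_blk77
  · exact uTabP_blk78
  · exact uTabP_blk79
  · exact uTabP_blk80
  · exact uTabP_blk81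
  · exact uTabP_blk82
  · exact uTabP_blk83
  · exact uTabP_blk84
  · exact uTabP_blk85
  · exact uTabP_blk86
  · exact uTabP_blk87
  · exact uTabP_blk88
  · exact uTabP_blk89
  · exact uTabP_blk90
  · exact uTabP_blk91
  · exact uTabP_blk92
  · exact uTabP_blk93
  · exact uTabP_blk94
  · exact uTabP_blk95
  · exact uTabP_blk96
  · exact uTabP_blk97
  · exact uTabP_blk98
  · exact uTabP_blk99
  · exact uTabP_blk100
  · exact uTabP_blk101
  · exact uTabP_blk102
  · exact uTabP_blk103
  · exact uTabP_blk104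
  · exact uTabP_blk105
  · exact uTabP_blk106
  · exact uTabP_blk107
  · exact uTabP_blk108
  · exact uTabP_blk109
  · exact uTabP_blk110
  · exact uTabP_blk111
  · exact uTabP_blk112
  · exact uTabP_blk113
  · exact uTabP_blk114
  · exact uTabP_blk115
  · exact uTabP_blk116
  · exact uTabP_blk117
  · exact uTabP_blk118
  · exact uTabP_blk119
  · exact uTabP_blk120
  · exact uTabP_blk121
  · exact uTabP_blk122
  · exact uTabP_blk123

theorem uA_eq (q : ℕ) (hq : q < nn) : uA q = act tf uw q := nbeq_eq_true.1 (uTabP_all q hq)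

theorem act_lt (w : List Gen) (q : ℕ) (hq : q < nn) : act tf w q < nn := by
  have h := T.wordPerm_apply_val w ⟨q, hq⟩
  have h2 : act tf w q = (((w.map T.perm).prod) ⟨q, hq⟩).val := h.symm
  rw [h2]
  exact (((w.map T.perm).prod) ⟨q, hq⟩).2

theorem orbListF_uA (k q : ℕ) (hq : q < nn) : orbListF uA k q = orbList tf uw k q := by
  rw [orbListF_congr uA (act tf uw) nn uA_eq (fun q hq => act_lt uw q hq) k q hq, orbListF_act]

theorem isMinF_uA (m : ℕ) (hm : m < nn) : isMinF uA 16 m = isMinF (act tf uw) 16 m := by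
  unfold isMinF
  rw [orbListF_congr uA (act tf uw) nn uA_eq (fun q hq => act_lt uw q hq) 16 m hm]

end

end Cfsg.Agent.Lib.Helper28.Fi23Out
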