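/-
The test for the centralizer of the element `y` of order 17 of the presented Fischer group Fi23 (least points of the cycles of `y`).
-/
import Cfsg.Agent.Lib.Helper28.Fi23Out.CentYDefs
import Cfsg.Agent.Lib.Helper28.Sift.Cent2

set_option autoImplicit false
set_option maxRecDepth 100000

namespace Cfsg.Agent.Lib.Helper28.Fi23Out

open Cfsg.Spor.Fi23 (Gen)
open Cfsg.Agent.Lib.Helper28.TC
open Cfsg.Agent.Lib.Helper28.Ord
open Cfsg.Agent.Lib.Helper28.Sift
open Cfsg.Agent.Lib.Helper28.Fi23x31671 (tf nn rels T hrel hinv nn_pos)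
open Cfsg.Agent.Lib.Helper28.Fi23Ord (phi phi_injective card_Fi23 finite_Fi23)

noncomputable section

/-- the test at the least points of the cycles of `y` -/
def chkY2 (m : ℕ) : Bool :=
  bor (bnot (isMinF (act tf yw) 17 m)) (siftP tf PY LsY (orbList tf yw 8 m) [])

end

end Cfsg.Agent.Lib.Helper28.Fi23Out
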