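/-
Kernel checks for the centralizer of the element `y` of the presented Fischer group Fi23 (part 0).
-/
import Cfsg.Agent.Lib.Helper28.Fi23Out.YRepDefs

set_option autoImplicit false
set_option maxRecDepth 100000
set_option Elab.async false

namespace Cfsg.Agent.Lib.Helper28.Fi23Out

open Cfsg.Spor.Fi23 (Gen)
open Cfsg.Agent.Lib.Helper28.TC
open Cfsg.Agent.Lib.Helper28.Ord
open Cfsg.Agent.Lib.Helper28.Sift
open Cfsg.Agent.Lib.Helper28.Fi23x31671 (tf nn rels T hrel hinv nn_pos)
open Cfsg.Agent.Lib.Helper28.Fi23Ord (phi phi_injective card_Fi23 finite_Fi23)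

noncomputable section


theorem chkY2_blk0 : allRange (guard nn chkY2) 8 (0 * 2 ^ 8) = true := by decide +kernel
theorem chkY2_blk1 : allRange (guard nn chkY2) 8 (1 * 2 ^ 8) = true := by decide +kernel
theorem chkY2_blk2 : allRange (guard nn chkY2) 8 (2 * 2 ^ 8) = true := by decide +kernel
theorem chkY2_blk3 : allRange (guard nn chkY2) 8 (3 * 2 ^ 8) = true := by decide +kernel
theorem chkY2_blk4 : allRange (guard nn chkY2) 8 (4 * 2 ^ 8) = true := by decide +kernel
theorem chkY2_blk5 : allRange (guard nn chkY2) 8 (5 * 2 ^ 8) = true := by decide +kernel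
theorem chkY2_blk6 : allRange (guard nn chkY2) 8 (6 * 2 ^ 8) = true := by decide +kernel
theorem chkY2_blk7 : allRange (guard nn chkY2) 8 (7 * 2 ^ 8) = true := by decide +kernel
theorem chkY2_blk8 : allRange (guard nn chkY2) 8 (8 * 2 ^ 8) = true := by decide +kernel
theorem chkY2_blk9 : allRange (guard nn chkY2) 8 (9 * 2 ^ 8) = true := by decide +kernel
theorem chkY2_blk10 : allRange (guard nn chkY2) 8 (10 * 2 ^ 8) = true := by decide +kernel
theorem chkY2_blk11 : allRange (guard nn chkY2) 8 (11 * 2 ^ 8) = true := by decide +kernel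
theorem chkY2_blk12 : allRange (guard nn chkY2) 8 (12 * 2 ^ 8) = true := by decide +kernel
theorem chkY2_blk13 : allRange (guard nn chkY2) 8 (13 * 2 ^ 8) = true := by decide +kernel
theorem chkY2_blk14 : allRange (guard nn chkY2) 8 (14 * 2 ^ 8) = true := by decide +kernel
theorem chkY2_blk15 : allRange (guard nn chkY2) 8 (15 * 2 ^ 8) = true := by decide +kernel
theorem chkY2_blk16 : allRange (guard nn chkY2) 8 (16 * 2 ^ 8) = true := by decide +kernel
theorem chkY2_blk17 : allRange (guard nn chkY2) 8 (17 * 2 ^ 8) = true := by decide +kernel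
theorem chkY2_blk18 : allRange (guard nn chkY2) 8 (18 * 2 ^ 8) = true := by decide +kernel
theorem chkY2_blk19 : allRange (guard nn chkY2) 8 (19 * 2 ^ 8) = true := by decide +kernel
theorem chkY2_blk20 : allRange (guard nn chkY2) 8 (20 * 2 ^ 8) = true := by decide +kernel
theorem chkY2_blk21 : allRange (guard nn chkY2) 8 (21 * 2 ^ 8) = true := by decide +kernel
theorem chkY2_blk22 : allRange (guard nn chkY2) 8 (22 * 2 ^ 8) = true := by decide +kernel
theorem chkY2_blk23 : allRange (guard nn chkY2) 8 (23 * 2 ^ 8) = true := by decide +kernel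
theorem chkY2_blk24 : allRange (guard nn chkY2) 8 (24 * 2 ^ 8) = true := by decide +kernel
theorem chkY2_blk25 : allRange (guard nn chkY2) 8 (25 * 2 ^ 8) = true := by decide +kernel
theorem chkY2_blk26 : allRange (guard nn chkY2) 8 (26 * 2 ^ 8) = true := by decide +kernel
theorem chkY2_blk27 : allRange (guard nn chkY2) 8 (27 * 2 ^ 8) = true := by decide +kernel
theorem chkY2_blk28 : allRange (guard nn chkY2) 8 (28 * 2 ^ 8) = true := by decide +kernel
theorem chkY2_blk29 : allRange (guard nn chkY2) 8 (29 * 2 ^ 8) = true := by decide +kernel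
theorem chkY2_blk30 : allRange (guard nn chkY2) 8 (30 * 2 ^ 8) = true := by decide +kernel
theorem chkY2_blk31 : allRange (guard nn chkY2) 8 (31 * 2 ^ 8) = true := by decide +kernel
theorem chkY2_blk32 : allRange (guard nn chkY2) 8 (32 * 2 ^ 8) = true := by decide +kernel
theorem chkY2_blk33 : allRange (guard nn chkY2) 8 (33 * 2 ^ 8) = true := by decide +kernel
theorem chkY2_blk34 : allRange (guard nn chkY2) 8 (34 * 2 ^ 8) = true := by decide +kernel
theorem chkY2_blk35 : allRange (guard nn chkY2) 8 (35 * 2 ^ 8) = true := by decide +kernel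
theorem chkY2_blk36 : allRange (guard nn chkY2) 8 (36 * 2 ^ 8) = true := by decide +kernel
theorem chkY2_blk37 : allRange (guard nn chkY2) 8 (37 * 2 ^ 8) = true := by decide +kernel
theorem chkY2_blk38 : allRange (guard nn chkY2) 8 (38 * 2 ^ 8) = true := by decide +kernel
theorem chkY2_blk39 : allRange (guard nn chkY2) 8 (39 * 2 ^ 8) = true := by decide +kernel
theorem chkY2_blk40 : allRange (guard nn chkY2) 8 (40 * 2 ^ 8) = true := by decide +kernel
theorem chkY2_blk41 : allRange (guard nn chkY2) 8 (41 * 2 ^ 8) = true := by decide +kernel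
theorem chkY2_blk42 : allRange (guard nn chkY2) 8 (42 * 2 ^ 8) = true := by decide +kernel
theorem chkY2_blk43 : allRange (guard nn chkY2) 8 (43 * 2 ^ 8) = true := by decide +kernel
theorem chkY2_blk44 : allRange (guard nn chkY2) 8 (44 * 2 ^ 8) = true := by decide +kernel
theorem chkY2_blk45 : allRange (guard nn chkY2) 8 (45 * 2 ^ 8) = true := by decide +kernel
theorem chkY2_blk46 : allRange (guard nn chkY2) 8 (46 * 2 ^ 8) = true := by decide +kernel
theorem chkY2_blk47 : allRange (guard nn chkY2) 8 (47 * 2 ^ 8) = true := by decide +kernel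
theorem chkY2_blk48 : allRange (guard nn chkY2) 8 (48 * 2 ^ 8) = true := by decide +kernel
theorem chkY2_blk49 : allRange (guard nn chkY2) 8 (49 * 2 ^ 8) = true := by decide +kernel
theorem chkY2_blk50 : allRange (guard nn chkY2) 8 (50 * 2 ^ 8) = true := by decide +kernel
theorem chkY2_blk51 : allRange (guard nn chkY2) 8 (51 * 2 ^ 8) = true := by decide +kernel
theorem chkY2_blk52 : allRange (guard nn chkY2) 8 (52 * 2 ^ 8) = true := by decide +kernel
theorem chkY2_blk53 : allRange (guard nn chkY2) 8 (53 * 2 ^ 8) = true := by decide +kernel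
theorem chkY2_blk54 : allRange (guard nn chkY2) 8 (54 * 2 ^ 8) = true := by decide +kernel
theorem chkY2_blk55 : allRange (guard nn chkY2) 8 (55 * 2 ^ 8) = true := by decide +kernel
theorem chkY2_blk56 : allRange (guard nn chkY2) 8 (56 * 2 ^ 8) = true := by decide +kernel
theorem chkY2_blk57 : allRange (guard nn chkY2) 8 (57 * 2 ^ 8) = true := by decide +kernel
theorem chkY2_blk58 : allRange (guard nn chkY2) 8 (58 * 2 ^ 8) = true := by decide +kernel
theorem chkY2_blk59 : allRange (guard nn chkY2) 8 (59 * 2 ^ 8) = true := by decide +kernel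
theorem chkY2_blk60 : allRange (guard nn chkY2) 8 (60 * 2 ^ 8) = true := by decide +kernel
theorem chkY2_blk61 : allRange (guard nn chkY2) 8 (61 * 2 ^ 8) = true := by decide +kernel
theorem chkY2_blk62 : allRange (guard nn chkY2) 8 (62 * 2 ^ 8) = true := by decide +kernel
theorem chkY2_blk63 : allRange (guard nn chkY2) 8 (63 * 2 ^ 8) = true := by decide +kernel
theorem chkY2_blk64 : allRange (guard nn chkY2) 8 (64 * 2 ^ 8) = true := by decide +kernel
theorem chkY2_blk65 : allRange (guard nn chkY2) 8 (65 * 2 ^ 8) = true := by decide +kernel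
theorem chkY2_blk66 : allRange (guard nn chkY2) 8 (66 * 2 ^ 8) = true := by decide +kernel
theorem chkY2_blk67 : allRange (guard nn chkY2) 8 (67 * 2 ^ 8) = true := by decide +kernel
theorem chkY2_blk68 : allRange (guard nn chkY2) 8 (68 * 2 ^ 8) = true := by decide +kernel
theorem chkY2_blk69 : allRange (guard nn chkY2) 8 (69 * 2 ^ 8) = true := by decide +kernel
theorem chkY2_blk70 : allRange (guard nn chkY2) 8 (70 * 2 ^ 8) = true := by decide +kernel
theorem chkY2_blk71 : allRange (guard nn chkY2) 8 (71 * 2 ^ 8) = true := by decide +kernel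
theorem chkY2_blk72 : allRange (guard nn chkY2) 8 (72 * 2 ^ 8) = true := by decide +kernel
theorem chkY2_blk73 : allRange (guard nn chkY2) 8 (73 * 2 ^ 8) = true := by decide +kernel
theorem chkY2_blk74 : allRange (guard nn chkY2) 8 (74 * 2 ^ 8) = true := by decide +kernel
theorem chkY2_blk75 : allRange (guard nn chkY2) 8 (75 * 2 ^ 8) = true := by decide +kernel
theorem chkY2_blk76 : allRange (guard nn chkY2) 8 (76 * 2 ^ 8) = true := by decide +kernel
theorem chkY2_blk77 : allRange (guard nn chkY2) 8 (77 * 2 ^ 8) = true := by decide +kernel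
theorem chkY2_blk78 : allRange (guard nn chkY2) 8 (78 * 2 ^ 8) = true := by decide +kernel
theorem chkY2_blk79 : allRange (guard nn chkY2) 8 (79 * 2 ^ 8) = true := by decide +kernel
theorem chkY2_blk80 : allRange (guard nn chkY2) 8 (80 * 2 ^ 8) = true := by decide +kernel
theorem chkY2_blk81 : allRange (guard nn chkY2) 8 (81 * 2 ^ 8) = true := by decide +kernel
theorem chkY2_blk82 : allRange (guard nn chkY2) 8 (82 * 2 ^ 8) = true := by decide +kernel
theorem chkY2_blk83 : allRange (guard nn chkY2) 8 (83 * 2 ^ 8) = true := by decide +kernel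
theorem chkY2_blk84 : allRange (guard nn chkY2) 8 (84 * 2 ^ 8) = true := by decide +kernel
theorem chkY2_blk85 : allRange (guard nn chkY2) 8 (85 * 2 ^ 8) = true := by decide +kernel
theorem chkY2_blk86 : allRange (guard nn chkY2) 8 (86 * 2 ^ 8) = true := by decide +kernel
theorem chkY2_blk87 : allRange (guard nn chkY2) 8 (87 * 2 ^ 8) = true := by decide +kernel
theorem chkY2_blk88 : allRange (guard nn chkY2) 8 (88 * 2 ^ 8) = true := by decide +kernel
theorem chkY2_blk89 : allRange (guard nn chkY2) 8 (89 * 2 ^ 8) = true := by decide +kernel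
theorem chkY2_blk90 : allRange (guard nn chkY2) 8 (90 * 2 ^ 8) = true := by decide +kernel
theorem chkY2_blk91 : allRange (guard nn chkY2) 8 (91 * 2 ^ 8) = true := by decide +kernel
theorem chkY2_blk92 : allRange (guard nn chkY2) 8 (92 * 2 ^ 8) = true := by decide +kernel
theorem chkY2_blk93 : allRange (guard nn chkY2) 8 (93 * 2 ^ 8) = true := by decide +kernel
theorem chkY2_blk94 : allRange (guard nn chkY2) 8 (94 * 2 ^ 8) = true := by decide +kernel
theorem chkY2_blk95 : allRange (guard nn chkY2) 8 (95 * 2 ^ 8) = true := by decide +kernel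
theorem chkY2_blk96 : allRange (guard nn chkY2) 8 (96 * 2 ^ 8) = true := by decide +kernel
theorem chkY2_blk97 : allRange (guard nn chkY2) 8 (97 * 2 ^ 8) = true := by decide +kernel
theorem chkY2_blk98 : allRange (guard nn chkY2) 8 (98 * 2 ^ 8) = true := by decide +kernel
theorem chkY2_blk99 : allRange (guard nn chkY2) 8 (99 * 2 ^ 8) = true := by decide +kernel
theorem chkY2_blk100 : allRange (guard nn chkY2) 8 (100 * 2 ^ 8) = true := by decide +kernel
theorem chkY2_blk101 : allRange (guard nn chkY2) 8 (101 * 2 ^ 8) = true := by decide +kernel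
theorem chkY2_blk102 : allRange (guard nn chkY2) 8 (102 * 2 ^ 8) = true := by decide +kernel
theorem chkY2_blk103 : allRange (guard nn chkY2) 8 (103 * 2 ^ 8) = true := by decide +kernel
theorem chkY2_blk104 : allRange (guard nn chkY2) 8 (104 * 2 ^ 8) = true := by decide +kernel
theorem chkY2_blk105 : allRange (guard nn chkY2) 8 (105 * 2 ^ 8) = true := by decide +kernel
theorem chkY2_blk106 : allRange (guard nn chkY2) 8 (106 * 2 ^ 8) = true := by decide +kernel
theorem chkY2_blk107 : allRange (guard nn chkY2) 8 (107 * 2 ^ 8) = true := by decide +kernel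
theorem chkY2_blk108 : allRange (guard nn chkY2) 8 (108 * 2 ^ 8) = true := by decide +kernel
theorem chkY2_blk109 : allRange (guard nn chkY2) 8 (109 * 2 ^ 8) = true := by decide +kernel
theorem chkY2_blk110 : allRange (guard nn chkY2) 8 (110 * 2 ^ 8) = true := by decide +kernel
theorem chkY2_blk111 : allRange (guard nn chkY2) 8 (111 * 2 ^ 8) = true := by decide +kernel
theorem chkY2_blk112 : allRange (guard nn chkY2) 8 (112 * 2 ^ 8) = true := by decide +kernel
theorem chkY2_blk113 : allRange (guard nn chkY2) 8 (113 * 2 ^ 8) = true := by decide +kernel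
theorem chkY2_blk114 : allRange (guard nn chkY2) 8 (114 * 2 ^ 8) = true := by decide +kernel
theorem chkY2_blk115 : allRange (guard nn chkY2) 8 (115 * 2 ^ 8) = true := by decide +kernel
theorem chkY2_blk116 : allRange (guard nn chkY2) 8 (116 * 2 ^ 8) = true := by decide +kernel
theorem chkY2_blk117 : allRange (guard nn chkY2) 8 (117 * 2 ^ 8) = true := by decide +kernel
theorem chkY2_blk118 : allRange (guard nn chkY2) 8 (118 * 2 ^ 8) = true := by decide +kernel
theorem chkY2_blk119 : allRange (guard nn chkY2) 8 (119 * 2 ^ 8) = true := by decide +kernel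
theorem chkY2_blk120 : allRange (guard nn chkY2) 8 (120 * 2 ^ 8) = true := by decide +kernel
theorem chkY2_blk121 : allRange (guard nn chkY2) 8 (121 * 2 ^ 8) = true := by decide +kernel
theorem chkY2_blk122 : allRange (guard nn chkY2) 8 (122 * 2 ^ 8) = true := by decide +kernel
theorem chkY2_blk123 : allRange (guard nn chkY2) 8 (123 * 2 ^ 8) = true := by decide +kernel

end

end Cfsg.Agent.Lib.Helper28.Fi23Out
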