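/-
The element `y` of order 17 of the presented Fischer group Fi23 is self-centralizing.
-/
import Cfsg.Agent.Lib.Helper28.Fi23Out.YRepBlk0

set_option autoImplicit false
set_option maxRecDepth 100000

namespace Cfsg.Agent.Lib.Helper28.Fi23Out

open Cfsg.Spor.Fi23 (Gen)
open Cfsg.Agent.Lib.Helper28.TC
open Cfsg.Agent.Lib.Helper28.Ord
open Cfsg.Agent.Lib.Helper28.Sift
open Cfsg.Agent.Lib.Helper28.Fi23x31671 (tf nn rels T hrel hinv nn_pos)
open Cfsg.Agent.Lib.Helper28.Fi23Ord (phi phi_injective card_Fi23 finite_Fi23)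

noncomputable section

theorem chkY2_all : ∀ i, i < nn → chkY2 i = true := by
  refine all_of_blocks nn chkY2 8 124 (by decide) ?_
  intro k hk
  interval_cases k
  · exact chkY2_blk0
  · exact chkY2_blk1
  · exact chkY2_blk2
  · exact chkY2_blk3
  · exact chkY2_blk4
  · exact chkY2_blk5
  · exact chkY2_blk6
  · exact chkY2_blk7
  · exact chkY2_blk8
  · exact chkY2_blk9
  · exact chkY2_blk10
  · exact chkY2_blk11
  · exact chkY2_blk12
  · exact chkY2_blk13
  · exact chkY2_blk14
  · exact chkY2_blk15
  · exact chkY2_blk16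
  · exact chkY2_blk17
  · exact chkY2_blk18
  · exact chkY2_blk19
  · exact chkY2_blk20
  · exact chkY2_blk21
  · exact chkY2_blk22
  · exact chkY2_blk23
  · exact chkY2_blk24
  · exact chkY2_blk25
  · exact chkY2_blk26
  · exact chkY2_blk27
  · exact chkY2_blk28
  · exact chkY2_blk29
  · exact chkY2_blk30
  · exact chkY2_blk31
  · exact chkY2_blk32
  · exact chkY2_blk33
  · exact chkY2_blk34
  · exact chkY2_blk35
  · exact chkY2_blk36
  · exact chkY2_blk37
  · exact chkY2_blk38
  · exact chkY2_blk39
  · exact chkY2_blk40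
  · exact chkY2_blk41
  · exact chkY2_blk42
  · exact chkY2_blk43
  · exact chkY2_blk44
  · exact chkY2_blk45
  · exact chkY2_blk46
  · exact chkY2_blk47
  · exact chkY2_blk48
  · exact chkY2_blk49
  · exact chkY2_blk50
  · exact chkY2_blk51
  · exact chkY2_blk52
  · exact chkY2_blk53
  · exact chkY2_blk54
  · exact chkY2_blk55
  · exact chkY2_blk56
  · exact chkY2_blk57
  · exact chkY2_blk58
  · exact chkY2_blk59
  · exact chkY2_blk60
  · exact chkY2_blk61
  · exact chkY2_blk62
  · exact chkY2_blk63
  · exact chkY2_blk64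
  · exact chkY2_blk65
  · exact chkY2_blk66
  · exact chkY2_blk67
  · exact chkY2_blk68
  · exact chkY2_blk69
  · exact chkY2_blk70
  · exact chkY2_blk71
  · exact chkY2_blk72
  · exact chkY2_blk73
  · exact chkY2_blk74
  · exact chkY2_blk75
  · exact chkY2_blk76
  · exact chkY2_blk77
  · exact chkY2_blk78
  · exact chkY2_blk79
  · exact chkY2_blk80
  · exact chkY2_blk81
  · exact chkY2_blk82
  · exact chkY2_blk83
  · exact chkY2_blk84
  · exact chkY2_blk85
  · exact chkY2_blk86
  · exact chkY2_blk87
  · exact chkY2_blk88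
  · exact chkY2_blk89
  · exact chkY2_blk90
  · exact chkY2_blk91
  · exact chkY2_blk92
  · exact chkY2_blk93
  · exact chkY2_blk94
  · exact chkY2_blk95
  · exact chkY2_blk96
  · exact chkY2_blk97
  · exact chkY2_blk98
  · exact chkY2_blk99
  · exact chkY2_blk100
  · exact chkY2_blk101
  · exact chkY2_blk102
  · exact chkY2_blk103
  · exact chkY2_blk104
  · exact chkY2_blk105
  · exact chkY2_blk106
  · exact chkY2_blk107
  · exact chkY2_blk108
  · exact chkY2_blk109
  · exact chkY2_blk110
  · exact chkY2_blk111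
  · exact chkY2_blk112
  · exact chkY2_blk113
  · exact chkY2_blk114
  · exact chkY2_blk115
  · exact chkY2_blk116
  · exact chkY2_blk117
  · exact chkY2_blk118
  · exact chkY2_blk119
  · exact chkY2_blk120
  · exact chkY2_blk121
  · exact chkY2_blk122
  · exact chkY2_blk123

theorem y17_chk : isId (wrep 17 yw) = true := by decide +kernel

theorem y_ne_chk : isId yw = false := by decide +kernel

theorem uyu_chk : wEq (uw ++ yw ++ uw.reverse) (wrep 6 yw) = true := by decide +kernel

theorem u16_chk : isId (wrep 16 uw) = true := by decide +kernel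

theorem we_yw : we yw = yE := rfl

theorem y_pow17 : yE ^ 17 = 1 := by
  have h := (isId_iff _).1 y17_chk
  rw [show we (wrep 17 yw) = yE ^ 17 from wval_wrep _ _ _] at h
  exact h

theorem u_pow16 : uE ^ 16 = 1 := by
  have h := (isId_iff _).1 u16_chk
  rw [show we (wrep 16 uw) = uE ^ 16 from wval_wrep _ _ _] at h
  exact h

/-- the centralizer of `y` is generated by `y` -/
theorem cent_y (c : GF) (hc : c * yE = yE * c) : c ∈ Subgroup.zpowers yE := by
  obtain ⟨j, _, m, hm, hmin, w, hw0, hs⟩ := cent_cover_min T hrel phi_injective nn_pos LsY hokY hexY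
    yw 0 (by decide) rootsY 17 (by decide) y_pow17 c hc
  have hw : c = yE ^ j * we w := hw0
  have hmin' : isMinF (act tf yw) 17 m = true := by
    apply isMinF_of
    intro i hi
    rw [iterate_act]
    exact hmin i hi
  have h0 := chkY2_all m hm
  unfold chkY2 at h0
  rw [bor_eq_true, bnot_eq_true, hmin'] at h0
  have h1 : PY w = true := by
    rw [← hs PY]
    rcases h0 with h0 | h0
    · cases h0
    · exact h0
  have hcw : we w * yE = yE * we w := by
    have e : we w = (yE ^ j)⁻¹ * c := by rw [hw, inv_mul_cancel_left]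
    have hcy : (yE ^ j)⁻¹ * yE = yE * (yE ^ j)⁻¹ :=
      (((Commute.refl yE).pow_left j).inv_left).eq
    rw [e, mul_assoc, hc, ← mul_assoc, hcy, mul_assoc]
  unfold PY at h1
  rw [bor_eq_true, bnot_eq_true] at h1
  rcases h1 with h1 | h1
  · exfalso
    have h2 : wEq (w ++ yw) (yw ++ w) = true := by
      rw [wEq_iff, we_append, we_append]
      exact hcw
    rw [h2] at h1
    cases h1
  · obtain ⟨k, _, hk⟩ := anyList_spec _ _ h1
    rw [wEq_iff] at hk
    have : we (wrep k yw) = yE ^ k := wval_wrep _ _ _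
    rw [hw, hk, this, ← pow_add]
    exact Subgroup.pow_mem _ (Subgroup.mem_zpowers _) _

theorem orderOf_y : orderOf yE = 17 := by
  have : Fact (Nat.Prime 17) := ⟨by norm_num⟩
  apply orderOf_eq_prime y_pow17
  intro h
  have h2 := (isId_iff yw).2 h
  rw [y_ne_chk] at h2
  cases h2

theorem uyu : uE * yE * uE⁻¹ = yE ^ 6 := by
  have h := (wEq_iff _ _).1 uyu_chk
  rw [we_append, we_append, we_reverse, show we (wrep 6 yw) = yE ^ 6 from wval_wrep _ _ _] at h
  exact h

end

end Cfsg.Agent.Lib.Helper28.Fi23Out
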