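/-
An automorphism of the presented Fischer group Fi23 fixing the element `y` of order 17 is inner.
-/
import Cfsg.Agent.Lib.Helper28.Fi23Out.URep
import Cfsg.Agent.Lib.Helper28.Fi23Out.YRep
import Cfsg.Agent.Lib.Helper28.Fi23Out.UTab
import Cfsg.Prelude.Def_KGroupFacts

set_option autoImplicit false
set_option maxRecDepth 100000

namespace Cfsg.Agent.Lib.Helper28.Fi23Out

open Cfsg.Spor.Fi23 (Gen)
open Cfsg.Agent.Lib.Helper28.TC
open Cfsg.Agent.Lib.Helper28.Ord
open Cfsg.Agent.Lib.Helper28.Sift
open Cfsg.Agent.Lib.Helper28.Fi23x31671 (tf nn rels T hrel hinv nn_pos)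
open Cfsg.Agent.Lib.Helper28.Fi23Ord (phi phi_injective card_Fi23 finite_Fi23)

noncomputable section

theorem we_wrep (k : ℕ) (w : List Gen) : we (wrep k w) = we w ^ k := wval_wrep _ _ _

theorem s_comm_u : sE * uE = uE * sE := by
  have h := (wEq_iff _ _).1 su_chk
  rw [we_append, we_append] at h
  exact h

theorem we_rel1 (w : List Gen) : we (rel1 w) = we w ^ 2 := we_wrep _ _

theorem we_rel2 (w : List Gen) : we (rel2 w) = (yE * uE * we w) ^ 14 := by
  unfold rel2
  rw [we_wrep, we_append, we_append]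
  rfl

theorem s_rel1 : sE ^ 2 = 1 := by
  have h := (isId_iff _).1 r1_chk
  rw [we_rel1] at h
  exact h

theorem s_rel2 : (yE * uE * sE) ^ 14 = 1 := by
  have h := (isId_iff _).1 r2_chk
  rw [we_rel2] at h
  exact h

/-- an automorphism fixing `y` and `u` fixes `s` -/
theorem elim_main (β : MulAut GF) (hy : β yE = yE) (hu : β uE = uE) : β sE = sE := by
  have hc : β sE * wval (pval rels) uw = wval (pval rels) uw * β sE := by
    show β sE * uE = uE * β sE
    rw [← hu, ← map_mul, ← map_mul, s_comm_u]
  obtain ⟨j, hj, m, hm, hmin, w, hw0, hs⟩ := cent_cover_min T hrel phi_injective nn_pos LsU hokU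
    hexU uw 0 (by decide) rootsU 16 (by decide) u_pow16 (β sE) hc
  have hw : β sE = uE ^ j * we w := hw0
  have hmin' : isMinF uA 16 m = true := by
    rw [isMinF_uA m hm]
    apply isMinF_of
    intro i hi
    rw [iterate_act]
    exact hmin i hi
  have h0 := chkU2_all m hm
  unfold chkU2 at h0
  rw [bor_eq_true, bnot_eq_true, hmin', orbListF_uA 6 m hm] at h0
  have h1 : PU16 w = true := by
    rw [← hs PU16]
    rcases h0 with h0 | h0
    · cases h0
    · exact h0
  have hcw : we w * uE = uE * we w := by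
    have e : we w = (uE ^ j)⁻¹ * β sE := by rw [hw, inv_mul_cancel_left]
    have hcu : (uE ^ j)⁻¹ * uE = uE * (uE ^ j)⁻¹ :=
      (((Commute.refl uE).pow_left j).inv_left).eq
    have hc' : β sE * uE = uE * β sE := hc
    rw [e, mul_assoc, hc', ← mul_assoc, hcu, mul_assoc]
  unfold PU16 at h1
  rw [bor_eq_true, bnot_eq_true] at h1
  have h2 : PUr (wrep j uw ++ w) = true := by
    rcases h1 with h1 | h1
    · exfalso
      have h2 : wEq (w ++ uw) (uw ++ w) = true := by
        rw [wEq_iff, we_append, we_append]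
        exact hcw
      rw [h2] at h1
      cases h1
    · exact allList_spec _ _ h1 j (List.mem_range.2 hj)
  have hwj : we (wrep j uw ++ w) = β sE := by
    rw [we_append, we_wrep, hw]
    rfl
  unfold PUr at h2
  rw [bor_eq_true, bor_eq_true, bnot_eq_true, bnot_eq_true] at h2
  rcases h2 with h2 | h2 | h2
  · rw [wEq_iff, hwj] at h2
    rw [h2]
    rfl
  · exfalso
    have h3 : isId (rel1 (wrep j uw ++ w)) = true := by
      rw [isId_iff, we_rel1, hwj, ← map_pow, s_rel1, map_one]
    rw [h3] at h2
    cases h2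
  · exfalso
    have h3 : isId (rel2 (wrep j uw ++ w)) = true := by
      rw [isId_iff, we_rel2, hwj]
      have : yE * uE * β sE = β (yE * uE * sE) := by
        rw [map_mul, map_mul, hy, hu]
      rw [this, ← map_pow, s_rel2, map_one]
    rw [h3] at h2
    cases h2

/-! ### The generators are conjugates of `s` by words in `y, u, s` -/

theorem flatS_nil : flatS [] = [] := rfl

theorem flatS_cons (c : ℕ) (code : List ℕ) : flatS (c :: code) = lw c ++ flatS code := rfl

theorem lw_fix (β : MulAut GF) (hy : β yE = yE) (hu : β uE = uE) (hs : β sE = sE) (c : ℕ) :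
    β (we (lw c)) = we (lw c) := by
  unfold lw
  match c with
  | 0 => exact hy
  | 1 => exact hu
  | 2 => exact hs
  | 3 =>
    show β (we yw.reverse) = we yw.reverse
    rw [we_reverse, map_inv]
    exact congrArg _ hy
  | 4 =>
    show β (we uw.reverse) = we uw.reverse
    rw [we_reverse, map_inv]
    exact congrArg _ hu
  | 5 =>
    show β (we sw.reverse) = we sw.reverse
    rw [we_reverse, map_inv]
    exact congrArg _ hs
  | (k + 6) =>
    show β (we []) = we []
    rw [we_nil, map_one]

theorem flatS_fix (β : MulAut GF) (hy : β yE = yE) (hu : β uE = uE) (hs : β sE = sE)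
    (code : List ℕ) : β (we (flatS code)) = we (flatS code) := by
  induction code with
  | nil => rw [flatS_nil, we_nil, map_one]
  | cons c code ih => rw [flatS_cons, we_append, map_mul, ih, lw_fix β hy hu hs]

theorem gen_eq (x : Gen) :
    pval rels x = we (flatS (conjW x)) * sE * (we (flatS (conjW x)))⁻¹ := by
  have h1 := (wEq_iff _ _).1 (genChk_all x)
  have h2 : we [x] = pval rels x := by
    unfold we
    rw [wval_cons, wval_nil, mul_one]
  rw [h2, we_append, we_append, we_reverse] at h1
  exact h1.symm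

/-- an automorphism fixing `y`, `u` and `s` is trivial -/
theorem eq_one_of_fix (β : MulAut GF) (hy : β yE = yE) (hu : β uE = uE) (hs : β sE = sE) :
    β = 1 := by
  have hgen : ∀ x : Gen, β (pval rels x) = pval rels x := by
    intro x
    rw [gen_eq x, map_mul, map_mul, map_inv, hs, flatS_fix β hy hu hs]
  have h2 : (β : GF →* GF) = MonoidHom.id GF := by
    apply PresentedGroup.ext
    intro x
    exact hgen x
  apply MulEquiv.ext
  intro g
  have := congrArg (fun f : GF →* GF => f g) h2
  exact this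

theorem u_pow_comm (k : ℕ) : uE * yE ^ k = yE ^ (6 * k) * uE := by
  have h1 : uE * yE = yE ^ 6 * uE := by
    have := uyu
    rw [mul_inv_eq_iff_eq_mul] at this
    exact this
  induction k with
  | zero => simp
  | succ k ih =>
    rw [pow_succ, ← mul_assoc, ih, mul_assoc, h1, ← mul_assoc, ← pow_add]
    congr 1

/-- an automorphism fixing `y` is inner -/
theorem rigid (β : MulAut GF) (hβ : β yE = yE) : β ∈ Cfsg.Inn GF := by
  -- `u⁻¹ β(u)` centralizes `y`
  have h1 : β uE * yE * (β uE)⁻¹ = yE ^ 6 := by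
    have := congrArg β uyu
    rwa [map_mul, map_mul, map_inv, map_pow, hβ] at this
  set c := uE⁻¹ * β uE with hc
  have hcy : c * yE = yE * c := by
    have e1 : β uE * yE = yE ^ 6 * β uE := by
      rw [mul_inv_eq_iff_eq_mul] at h1
      exact h1
    have e2 : uE * yE = yE ^ 6 * uE := by
      have := uyu
      rw [mul_inv_eq_iff_eq_mul] at this
      exact this
    have e3 : uE⁻¹ * yE ^ 6 = yE * uE⁻¹ := by
      rw [inv_mul_eq_iff_eq_mul, ← mul_assoc, e2, mul_assoc, mul_inv_cancel, mul_one]
    rw [hc, mul_assoc, e1, ← mul_assoc, e3, mul_assoc]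
  have hmem := cent_y c hcy
  rw [← mem_powers_iff_mem_zpowers] at hmem
  obtain ⟨m, hm⟩ := hmem
  have hm' : yE ^ m = c := hm
  have hu' : β uE = uE * yE ^ m := by rw [hm', hc, mul_inv_cancel_left]
  set β' : MulAut GF := MulAut.conj (yE ^ (8 * m)) * β with hβ'
  have hy' : β' yE = yE := by
    rw [hβ', MulAut.mul_apply, hβ, MulAut.conj_apply]
    rw [← pow_succ, pow_succ', mul_assoc, mul_inv_cancel, mul_one]
  have hu'' : β' uE = uE := by
    have e3 : yE ^ (6 * (8 * m)) = yE ^ (8 * m + 6 * m) := by
      have e2 : 6 * (8 * m) = (8 * m + 6 * m) + 17 * (2 * m) := by ring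
      rw [e2, pow_add yE (8 * m + 6 * m), pow_mul yE 17, y_pow17, one_pow, mul_one]
    have e1 : yE ^ (8 * m) * (uE * yE ^ m) = uE * yE ^ (8 * m) := by
      rw [u_pow_comm m, u_pow_comm (8 * m), ← mul_assoc, ← pow_add, e3]
    rw [hβ', MulAut.mul_apply, hu', MulAut.conj_apply, e1, mul_assoc, mul_inv_cancel, mul_one]
  have hs' := elim_main β' hy' hu''
  have h1' := eq_one_of_fix β' hy' hu'' hs'
  have : β = (MulAut.conj (yE ^ (8 * m)))⁻¹ :=
    eq_inv_of_mul_eq_one_right (by rw [← hβ', h1'])
  rw [this]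
  exact (Cfsg.Inn GF).inv_mem ⟨yE ^ (8 * m), rfl⟩

end

end Cfsg.Agent.Lib.Helper28.Fi23Out
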