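/-
The outer automorphism group is trivial when there is a rigid element of order 17 conjugate to its
sixth power (a variant for the prime 17 of `Lib/Helper28/SuzOut/Rigid13.lean`).
-/
import Mathlib
import Cfsg.Prelude.Def_KGroupFacts

set_option autoImplicit false

namespace Cfsg.Agent.Lib.Helper28.Fi23Out

section Rigid17

theorem zmod17_cases : ∀ k : ZMod 17, k ≠ 0 → ∃ i : Fin 16, k = 6 ^ (i : ℕ) := by decide

variable {G : Type*} [Group G]

theorem conj_pow_six (y u : G) (hu : u * y * u⁻¹ = y ^ 6) (i : ℕ) :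
    u ^ i * y * (u ^ i)⁻¹ = y ^ (6 ^ i) := by
  induction i with
  | zero => simp
  | succ i ih =>
    have h1 : u ^ (i + 1) * y * (u ^ (i + 1))⁻¹ = u * (u ^ i * y * (u ^ i)⁻¹) * u⁻¹ := by
      rw [pow_succ']; group
    rw [h1, ih, ← conj_pow, hu, ← pow_mul, pow_succ']

/-- An automorphism sending `y` to a conjugate of `y` is inner, given rigidity. -/
theorem mem_inn_of_conj17 (y : G)
    (hrig : ∀ β : MulAut G, β y = y → β ∈ Cfsg.Inn G)
    (β : MulAut G) (h : G) (hβ : β y = h * y * h⁻¹) : β ∈ Cfsg.Inn G := by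
  have hc : MulAut.conj h ∈ Cfsg.Inn G := ⟨h, rfl⟩
  have h1 : (MulAut.conj h)⁻¹ * β ∈ Cfsg.Inn G := by
    apply hrig
    rw [MulAut.mul_apply, hβ, MulAut.conj_inv_apply]
    group
  have h2 : β = MulAut.conj h * ((MulAut.conj h)⁻¹ * β) := by group
  rw [h2]
  exact (Cfsg.Inn G).mul_mem hc h1

variable [Finite G]

theorem conj_pow_of_sylow17 (y : G) (hy : orderOf y = 17) (h17 : ¬ 17 ^ 2 ∣ Nat.card G)
    (β : MulAut G) : ∃ (g : G) (k : ℕ), β y = g * y ^ k * g⁻¹ := by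
  have : Fact (Nat.Prime 17) := ⟨by norm_num⟩
  have hcy : Nat.card (Subgroup.zpowers y) = 17 := by rw [Nat.card_zpowers, hy]
  have hoβ : orderOf (β y) = 17 := by rw [MulEquiv.orderOf_eq, hy]
  have hcβ : Nat.card (Subgroup.zpowers (β y)) = 17 := by rw [Nat.card_zpowers, hoβ]
  have key : ∀ z : G, Nat.card (Subgroup.zpowers z) = 17 →
      ∃ Q : Sylow 17 G, (Q : Subgroup G) = Subgroup.zpowers z := by
    intro z hz
    have hp : IsPGroup 17 (Subgroup.zpowers z) := IsPGroup.of_card (n := 1) (by rw [hz, pow_one])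
    obtain ⟨Q, hQ⟩ := hp.exists_le_sylow
    obtain ⟨m, hm⟩ := IsPGroup.iff_card.mp Q.2
    have hdvd : Nat.card (Q : Subgroup G) ∣ Nat.card G := Subgroup.card_subgroup_dvd_card _
    have h1 : 17 ∣ Nat.card (Q : Subgroup G) := by
      have := Subgroup.card_dvd_of_le hQ
      rwa [hz] at this
    have hm1 : m = 1 := by
      rw [hm] at h1 hdvd
      have hm0 : m ≠ 0 := by
        rintro rfl
        simp at h1
      have hm2 : m < 2 := by
        by_contra hcon
        push Not at hcon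
        exact h17 ((pow_dvd_pow 17 hcon).trans hdvd)
      omega
    refine ⟨Q, ?_⟩
    symm
    apply Subgroup.eq_of_le_of_card_ge hQ
    rw [hm, hm1, hz, pow_one]
  obtain ⟨Q, hQ⟩ := key y hcy
  obtain ⟨Q', hQ'⟩ := key (β y) hcβ
  obtain ⟨g, hg⟩ := MulAction.exists_smul_eq G Q Q'
  have hmem : β y ∈ (Q' : Subgroup G) := by rw [hQ']; exact Subgroup.mem_zpowers _
  rw [← hg, Sylow.coe_subgroup_smul, Subgroup.mem_smul_pointwise_iff_exists] at hmem
  obtain ⟨s, hs, hs2⟩ := hmem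
  rw [hQ] at hs
  obtain ⟨k, hk⟩ : ∃ k : ℕ, s = y ^ k := by
    rw [← mem_powers_iff_mem_zpowers, Submonoid.mem_powers_iff] at hs
    obtain ⟨k, hk⟩ := hs
    exact ⟨k, hk.symm⟩
  refine ⟨g, k, ?_⟩
  rw [← hs2, MulAut.smul_def, MulAut.conj_apply, hk]

/-- Every automorphism sends `y` to a conjugate of `y`. -/
theorem conj17 (y u : G) (hy : orderOf y = 17) (h17 : ¬ 17 ^ 2 ∣ Nat.card G)
    (hu : u * y * u⁻¹ = y ^ 6) (β : MulAut G) : ∃ h : G, β y = h * y * h⁻¹ := by
  obtain ⟨g, k, hk⟩ := conj_pow_of_sylow17 y hy h17 β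
  have hβ1 : β y ≠ 1 := by
    intro h
    have : y = 1 := by
      have := congrArg β.symm h
      simpa using this
    rw [this] at hy
    simp at hy
  have hk0 : ((k : ℕ) : ZMod 17) ≠ 0 := by
    intro h0
    rw [ZMod.natCast_eq_zero_iff] at h0
    apply hβ1
    rw [hk]
    have : y ^ k = 1 := by
      rw [← hy] at h0
      exact orderOf_dvd_iff_pow_eq_one.mp h0
    rw [this]; group
  obtain ⟨i, hi⟩ := zmod17_cases (k : ZMod 17) hk0
  have h1 : k ≡ 6 ^ (i : ℕ) [MOD 17] := by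
    rw [← ZMod.natCast_eq_natCast_iff]
    push_cast
    exact hi
  have h2 : y ^ k = y ^ (6 ^ (i : ℕ)) := by
    rw [pow_eq_pow_iff_modEq, hy]; exact h1
  refine ⟨g * u ^ (i : ℕ), ?_⟩
  rw [hk, h2, ← conj_pow_six y u hu]
  group

theorem out_card_one_of_rigid17 (y u : G)
    (hy : orderOf y = 17) (h17 : ¬ 17 ^ 2 ∣ Nat.card G)
    (hu : u * y * u⁻¹ = y ^ 6)
    (hrig : ∀ β : MulAut G, β y = y → β ∈ Cfsg.Inn G) :
    Nat.card (Cfsg.Out G) = 1 := by
  have htop : Cfsg.Inn G = ⊤ := by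
    rw [eq_top_iff]
    intro β _
    obtain ⟨h, hh⟩ := conj17 y u hy h17 hu β
    exact mem_inn_of_conj17 y hrig β h hh
  have hidx : (Cfsg.Inn G).index = 1 := by
    rw [htop]
    exact Subgroup.index_top
  exact hidx

end Rigid17

end Cfsg.Agent.Lib.Helper28.Fi23Out
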