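/-
The outer automorphism group of the presented Fischer group Fi23 is trivial.
-/
import Cfsg.Agent.Lib.Helper28.Fi23Out.Rigid
import Cfsg.Agent.Lib.Helper28.Fi23Out.Rigid17

set_option autoImplicit false

namespace Cfsg.Agent.Lib.Helper28.Fi23Out

open Cfsg.Agent.Lib.Helper28.Fi23Ord (card_Fi23)

/-- the outer automorphism group of the presented Fischer group Fi23 is trivial -/
theorem card_out : Nat.card (Cfsg.Out GF) = 1 := by
  apply out_card_one_of_rigid17 yE uE orderOf_y (by rw [card_Fi23]; norm_num) uyu rigid

end Cfsg.Agent.Lib.Helper28.Fi23Out
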